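import Cfsg.Agent.Signalizer.RankGraph
import Cfsg.Agent.S0217

/-!
# The odd subgroup generated by the cores of involution centralisers

All 2-locals 2-constrained and a Sylow 2-subgroup with a normal elementary abelian
subgroup of order at least 8.
-/

set_option autoImplicit false
set_option linter.unusedSectionVars false
set_option linter.style.haveILetI false

open Subgroup Cfsg

namespace Cfsg.Agent.CoreWeb

universe u

variable {G : Type u} [Group G] [Finite G]

/-- Balance for an element of prime power order. -/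
theorem balance {p : ℕ} [Fact p.Prime] {a b : G} (hab : a * b = b * a)
    (ha : IsPGroup p (zpowers a)) (hc : IsPConstrained p ↥(centralizer ({b} : Set G))) :
    centralizerPPrimeCore p a ⊓ centralizer {b} ≤ centralizerPPrimeCore p b := by
  set C := centralizer ({b} : Set G) with hC
  have haC : a ∈ C := mem_centralizer_singleton_iff.mpr hab
  set P : Subgroup ↥C := zpowers ⟨a, haC⟩ with hP
  have hPp : IsPGroup p P := by
    obtain ⟨n, hn⟩ := IsPGroup.iff_card.mp ha
    exact IsPGroup.of_card (n := n) (by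
      rw [hP, Nat.card_zpowers, ← Subgroup.orderOf_coe, ← hn, Nat.card_zpowers])
  set K := centralizer (P : Set ↥C) with hK
  have hKa : ∀ x : ↥C, x ∈ K ↔ (x : G) ∈ centralizer ({a} : Set G) := by
    intro x
    rw [hK, hP, zpowers_eq_closure, centralizer_closure, mem_centralizer_singleton_iff,
      mem_centralizer_singleton_iff, Subtype.ext_iff]
    rfl
  set N : Subgroup ↥K := ((centralizerPPrimeCore p a).subgroupOf C).subgroupOf K
  have hNn : N.Normal := by
    refine ⟨fun n hn g => ?_⟩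
    obtain ⟨m, hm, hmn⟩ := hn
    refine ⟨⟨((g : ↥C) : G), (hKa g).mp g.2⟩ * m * ⟨((g : ↥C) : G), (hKa g).mp g.2⟩⁻¹,
      Core.pPrimeCore_normal.conj_mem m hm _, ?_⟩
    simp only [Subgroup.coe_subtype, Subgroup.coe_mul, Subgroup.coe_inv] at hmn ⊢
    rw [hmn]
  have hNc : (Nat.card N).Coprime p := by
    refine Nat.Coprime.coprime_dvd_left ?_
      (Core.coprime_card_pPrimeCore (p := p) (G := ↥(centralizer ({a} : Set G))))
    rw [← Subgroup.card_map_of_injective (K := pPrimeCore p ↥(centralizer ({a} : Set G)))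
      (centralizer ({a} : Set G)).subtype_injective,
      ← Subgroup.card_map_of_injective (K := N) K.subtype_injective,
      ← Subgroup.card_map_of_injective (K := N.map K.subtype) C.subtype_injective]
    refine Subgroup.card_dvd_of_le ?_
    rintro _ ⟨_, ⟨n, hn, rfl⟩, rfl⟩
    exact hn
  have hle := Layer.pPrimeCore_centralizer_le hc hPp
  rintro x ⟨hxθ, hxb⟩
  have hxC : x ∈ C := hxb
  have hxK : (⟨x, hxC⟩ : ↥C) ∈ K := (hKa _).mpr ((map_subtype_le _) hxθ)
  exact ⟨⟨x, hxC⟩, hle ⟨⟨⟨x, hxC⟩, hxK⟩, Core.le_pPrimeCore (hN := hNn) hNc hxθ, rfl⟩, rfl⟩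

local notation "θ" => centralizerPPrimeCore 2

theorem theta_odd (a : G) : ¬ 2 ∣ Nat.card ↥(θ a) := by
  haveI : Fact (Nat.Prime 2) := ⟨Nat.prime_two⟩
  unfold centralizerPPrimeCore
  rw [Subgroup.card_map_of_injective (centralizer ({a} : Set G)).subtype_injective]
  exact Nat.prime_two.coprime_iff_not_dvd.mp Core.coprime_card_pPrimeCore.symm

theorem theta_conj_mem {a g : G} (h : g * a = a * g) {x : G} (hx : x ∈ θ a) :
    g * x * g⁻¹ ∈ θ a := by
  have e := Signalizer.core_conj (p := 2) a g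
  rw [h, mul_inv_cancel_right] at e
  rw [e]
  exact ⟨x, hx, rfl⟩

variable (h2c : ∀ T : Subgroup G, IsPGroup 2 T → T ≠ ⊥ →
    Cfsg.IsPConstrained 2 ↥(Subgroup.normalizer (T : Set G)))
include h2c

theorem constrained {b : G} (hb : b * b = 1) (hb1 : b ≠ 1) :
    IsPConstrained 2 ↥(centralizer ({b} : Set G)) := by
  haveI : Fact (Nat.Prime 2) := ⟨Nat.prime_two⟩
  have ho : orderOf b = 2 := orderOf_eq_prime (by rw [sq, hb]) hb1
  have hp : IsPGroup 2 (zpowers b) := IsPGroup.of_card (n := 1) (by rw [Nat.card_zpowers, ho, pow_one])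
  have hmem : ∀ y ∈ zpowers b, y = 1 ∨ y = b := by
    intro y hy
    obtain ⟨i, rfl⟩ := mem_zpowers_iff.mp hy
    rw [← zpow_mod_orderOf, ho]
    rcases Int.emod_two_eq_zero_or_one i with h | h <;> push_cast <;> simp [h]
  have he : centralizer ({b} : Set G) = normalizer ((zpowers b : Subgroup G) : Set G) := by
    ext g
    rw [mem_centralizer_singleton_iff]
    constructor
    · intro hg
      refine mem_normalizer_iff.mpr fun y => ⟨fun hy => ?_, fun hy => ?_⟩
      · rcases hmem y hy with e | e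
        · rw [e, mul_one, mul_inv_cancel]; exact one_mem _
        · rw [e, hg, mul_inv_cancel_right]; exact mem_zpowers b
      · rcases hmem _ hy with e | e
        · rw [conj_eq_one_iff.mp e]; exact one_mem _
        · have : y = g⁻¹ * (g * y * g⁻¹) * g := by group
          rw [this, e, mul_assoc, ← hg, inv_mul_cancel_left]
          exact mem_zpowers b
    · intro hg
      rcases hmem _ ((mem_normalizer_iff.mp hg b).mp (mem_zpowers b)) with e | e
      · exact absurd (conj_eq_one_iff.mp e) hb1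
      · exact mul_inv_eq_iff_eq_mul.mp e
  have := h2c (zpowers b) hp (fun e => hb1 (zpowers_eq_bot.mp e))
  exact he ▸ this

/-- Commuting four groups generate comparable joins. -/
theorem valueSup_le {E F : Subgroup G} (hE : IsElementaryAbelian 2 E) (hF : IsElementaryAbelian 2 F)
    (hF4 : 4 ≤ Nat.card F) (hEF : ∀ x ∈ E, ∀ y ∈ F, x * y = y * x) :
    Signalizer.valueSup θ E ≤ Signalizer.valueSup θ F := by
  haveI : Fact (Nat.Prime 2) := ⟨Nat.prime_two⟩
  refine iSup_le fun e => ?_
  have he2 : (e : G) * e = 1 := by rw [← sq]; exact hE.2 _ e.2.1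
  have hp : IsPGroup 2 (zpowers (e : G)) := IsPGroup.of_card (n := 1) (by
    rw [Nat.card_zpowers, pow_one]
    exact orderOf_eq_prime (by rw [sq, he2]) e.2.2)
  refine Coprime.ea_le_of_centralizers_le hF (by simpa using hF4) (theta_odd _)
    (le_normalizer_iff.mpr fun f hf x hx => theta_conj_mem (hEF _ e.2.1 f hf).symm hx)
    fun f hf hf1 => ?_
  exact (balance (hEF _ e.2.1 f hf) hp (constrained h2c (by rw [← sq]; exact hF.2 f hf) hf1)).trans
    (le_iSup (fun a : {a : G // a ∈ F ∧ a ≠ 1} => θ (a : G)) ⟨f, hf, hf1⟩)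

theorem valueSup_eq {E F : Subgroup G} (hE : IsElementaryAbelian 2 E) (hF : IsElementaryAbelian 2 F)
    (hE4 : 4 ≤ Nat.card E) (hF4 : 4 ≤ Nat.card F) (hEF : ∀ x ∈ E, ∀ y ∈ F, x * y = y * x) :
    Signalizer.valueSup θ E = Signalizer.valueSup θ F :=
  le_antisymm (valueSup_le h2c hE hF hF4 hEF)
    (valueSup_le h2c hF hE hE4 fun x hx y hy => (hEF y hy x hx).symm)

omit h2c in
/-- A commuting set of involutions generates an elementary abelian group. -/
theorem ea_closure {s : Set G} (h2 : ∀ x ∈ s, x * x = 1) (hc : ∀ x ∈ s, ∀ y ∈ s, x * y = y * x) :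
    IsElementaryAbelian 2 (closure s) := by
  have hcm := Subgroup.isMulCommutative_closure hc
  refine ⟨hcm, fun x hx => ?_⟩
  induction hx using closure_induction with
  | mem x hx => rw [sq]; exact h2 x hx
  | one => exact one_pow 2
  | mul x y hx hy ihx ihy =>
    have : Commute x y := congrArg Subtype.val (hcm.is_comm.comm ⟨x, hx⟩ ⟨y, hy⟩)
    rw [this.mul_pow, ihx, ihy, one_mul]
  | inv x _ ih => rw [inv_pow, ih, inv_one]

omit h2c in
theorem four_le {D : Subgroup G} (hD : IsElementaryAbelian 2 D) {a b : G} (ha : a ∈ D) (hb : b ∈ D)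
    (ha1 : a ≠ 1) (hb1 : b ≠ 1) (hne : a ≠ b) : 4 ≤ Nat.card D := by
  classical
  haveI : Fact (Nat.Prime 2) := ⟨Nat.prime_two⟩
  obtain ⟨n, hn⟩ := Coprime.ea_card hD
  rcases n with _ | _ | n
  · have : D = ⊥ := eq_bot_of_card_eq D (by rw [hn, pow_zero])
    rw [this, mem_bot] at ha
    exact absurd ha ha1
  · exfalso
    rw [zero_add, pow_one] at hn
    haveI := Fintype.ofFinite D
    have h3 : ({(1 : D), ⟨a, ha⟩, ⟨b, hb⟩} : Finset D).card ≤ 2 := by
      rw [← hn, Nat.card_eq_fintype_card]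
      exact Finset.card_le_univ _
    rw [Finset.card_eq_three.mpr ⟨1, ⟨a, ha⟩, ⟨b, hb⟩, fun e => ha1 (congrArg Subtype.val e).symm,
      fun e => hb1 (congrArg Subtype.val e).symm, fun e => hne (congrArg Subtype.val e), rfl⟩] at h3
    omega
  · rw [hn]
    calc 4 = 2 ^ 2 := rfl
      _ ≤ 2 ^ (n + 1 + 1) := Nat.pow_le_pow_right (by norm_num) (by omega)

/-- The data: a Sylow 2-subgroup and a normal elementary abelian subgroup of order at least 8. -/
structure Data (S E : Subgroup G) : Prop where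
  pgroup : IsPGroup 2 S
  le : E ≤ S
  norm : ∀ s ∈ S, ∀ x ∈ E, s * x * s⁻¹ ∈ E
  ea : IsElementaryAbelian 2 E
  big : 8 ≤ Nat.card E

omit h2c in
theorem Data.four_le_cent {S E : Subgroup G} (d : Data S E) {i : G} (hi : i ∈ S) (hi2 : i * i = 1) :
    4 ≤ Nat.card ↥(E ⊓ centralizer ({i} : Set G)) := by
  haveI : Fact (Nat.Prime 2) := ⟨Nat.prime_two⟩
  have hii : i⁻¹ = i := inv_eq_of_mul_eq_one_left hi2
  let φ : E →* E := MonoidHom.mk' (fun x => x * ⟨i * x * i⁻¹, d.norm i hi x x.2⟩) (by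
    intro x y
    apply Subtype.ext
    simp only [Subgroup.coe_mul]
    calc (x : G) * y * (i * (x * y) * i⁻¹) = x * (y * (i * x * i⁻¹)) * (i * y * i⁻¹) := by group
      _ = x * ((i * x * i⁻¹) * y) * (i * y * i⁻¹) := by
          rw [Coprime.ea_comm d.ea y.2 (d.norm i hi x x.2)]
      _ = _ := by group)
  set K := E ⊓ centralizer ({i} : Set G) with hK
  have hker : φ.ker = K.subgroupOf E := by
    ext x
    rw [MonoidHom.mem_ker, mem_subgroupOf, mem_inf, mem_centralizer_singleton_iff]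
    have hx2 : (x : G) * x = 1 := by rw [← sq]; exact d.ea.2 x x.2
    constructor
    · intro h
      have h' : (x : G) * (i * x * i⁻¹) = 1 := congrArg Subtype.val h
      refine ⟨x.2, ?_⟩
      have : i * (x : G) * i⁻¹ = x := by
        rw [eq_inv_of_mul_eq_one_right h', inv_eq_of_mul_eq_one_left hx2]
      exact (mul_inv_eq_iff_eq_mul.mp this).symm
    · rintro ⟨-, h⟩
      apply Subtype.ext
      show (x : G) * (i * x * i⁻¹) = 1
      rw [← h, mul_inv_cancel_right, hx2]
  have hrange : φ.range ≤ φ.ker := by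
    rintro _ ⟨x, rfl⟩
    rw [hker, mem_subgroupOf]
    refine mem_inf.mpr ⟨(φ x).2, mem_centralizer_singleton_iff.mpr ?_⟩
    show (x : G) * (i * x * i⁻¹) * i = i * ((x : G) * (i * x * i⁻¹))
    calc (x : G) * (i * x * i⁻¹) * i = x * (i * x) := by group
      _ = (i * i) * (x * (i * x)) := by rw [hi2, one_mul]
      _ = i * ((i * x * i) * x) := by group
      _ = i * ((i * x * i⁻¹) * x) := by rw [hii]
      _ = _ := by rw [Coprime.ea_comm d.ea (d.norm i hi x x.2) x.2]
  have h1 := φ.ker.card_mul_index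
  rw [Subgroup.index_ker] at h1
  have h2 := Subgroup.card_le_of_le hrange
  have h3 : Nat.card φ.ker = Nat.card K := by
    rw [hker]; exact Nat.card_congr (subgroupOfEquivOfLe inf_le_left).toEquiv
  obtain ⟨n, hn⟩ := Coprime.ea_card (Coprime.ea_mono d.ea (inf_le_left : K ≤ E))
  have h8 := d.big
  rcases n with _ | _ | n
  · rw [h3, hn] at h1 h2
    have := Nat.mul_le_mul_left (2 ^ 0) h2
    norm_num at h1 this; omega
  · rw [h3, hn] at h1 h2
    have := Nat.mul_le_mul_left (2 ^ (0 + 1)) h2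
    norm_num at h1 this; omega
  · rw [hn]
    calc 4 = 2 ^ 2 := rfl
      _ ≤ 2 ^ (n + 1 + 1) := Nat.pow_le_pow_right (by norm_num) (by omega)

/-- A four group of `S` has the same join as `E`. -/
theorem valueSup_four {S E : Subgroup G} (d : Data S E) {B : Subgroup G} (hBS : B ≤ S)
    (hB : IsElementaryAbelian 2 B) (hB4 : 4 ≤ Nat.card B) :
    Signalizer.valueSup θ B = Signalizer.valueSup θ E := by
  classical
  haveI : Fact (Nat.Prime 2) := ⟨Nat.prime_two⟩
  have hE2 : ∀ x ∈ E, x * x = 1 := fun x hx => by rw [← sq]; exact d.ea.2 x hx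
  have hB2 : ∀ x ∈ B, x * x = 1 := fun x hx => by rw [← sq]; exact hB.2 x hx
  -- a fixed point of `B` on `E`
  have hp : IsPGroup 2 B := d.pgroup.to_le hBS
  letI : MulAction B E :=
    { smul := fun b x => ⟨(b : G) * x * (b : G)⁻¹, d.norm b (hBS b.2) x x.2⟩
      one_smul := fun x => Subtype.ext (show (1 : G) * x * (1 : G)⁻¹ = x by simp)
      mul_smul := fun b c x => Subtype.ext (show ((b * c : B) : G) * x * ((b * c : B) : G)⁻¹ =
        (b : G) * ((c : G) * x * (c : G)⁻¹) * (b : G)⁻¹ by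
          simp only [Subgroup.coe_mul, mul_inv_rev, mul_assoc]) }
  have hdvd : 2 ∣ Nat.card E := by
    obtain ⟨n, hn⟩ := Coprime.ea_card d.ea
    have h8 := d.big
    rw [hn] at h8 ⊢
    exact dvd_pow_self 2 (fun e => by rw [e] at h8; norm_num at h8)
  obtain ⟨e, he, he1⟩ := hp.exists_fixed_point_of_prime_dvd_card_of_fixed_point E hdvd
    (a := (1 : E)) (fun b => Subtype.ext (show (b : G) * 1 * (b : G)⁻¹ = 1 by
      rw [mul_one, mul_inv_cancel]))
  have he1' : (e : G) ≠ 1 := fun h => he1 (Subtype.ext h.symm)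
  have hec : ∀ b ∈ B, b * e = e * b := fun b hb =>
    mul_inv_eq_iff_eq_mul.mp (congrArg Subtype.val (he ⟨b, hb⟩))
  -- an element of `B` other than `1` and `e`
  obtain ⟨b, hb, hb1, hbe⟩ : ∃ b ∈ B, b ≠ 1 ∧ b ≠ (e : G) := by
    by_contra hno
    simp only [not_exists, not_and, not_not] at hno
    haveI := Fintype.ofFinite B
    have hinj : Function.Injective (fun b : B => decide ((b : G) = 1)) := by
      intro x y hxy
      simp only [decide_eq_decide] at hxy
      apply Subtype.ext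
      by_cases hx : (x : G) = 1
      · rw [hx, hxy.mp hx]
      · rw [hno x x.2 hx, hno y y.2 (fun h => hx (hxy.mpr h))]
    have := Nat.card_le_card_of_injective _ hinj
    rw [Nat.card_eq_fintype_card (α := Bool), Fintype.card_bool] at this
    omega
  set V := closure ({(e : G), b} : Set G) with hV
  have hVea : IsElementaryAbelian 2 V := ea_closure
    (by rintro x (rfl | rfl); exacts [hE2 _ e.2, hB2 _ hb])
    (by rintro x (rfl | rfl) y (rfl | rfl); exacts [rfl, (hec _ hb).symm, hec _ hb, rfl])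
  have hV4 : 4 ≤ Nat.card V := four_le hVea (subset_closure (by simp)) (subset_closure (by simp))
    he1' hb1 hbe.symm
  have hBV : ∀ x ∈ B, ∀ y ∈ V, x * y = y * x := by
    intro x hx y hy
    have : y ∈ centralizer ({x} : Set G) := (closure_le _).mpr (by
      rintro z (rfl | rfl)
      · exact mem_centralizer_singleton_iff.mpr (hec x hx).symm
      · exact mem_centralizer_singleton_iff.mpr (Coprime.ea_comm hB hb hx)) hy
    exact (mem_centralizer_singleton_iff.mp this).symm
  rw [valueSup_eq h2c hB hVea hB4 hV4 hBV]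
  set K := E ⊓ centralizer ({b} : Set G) with hK
  have hK4 : 4 ≤ Nat.card K := d.four_le_cent (hBS hb) (hB2 b hb)
  have hKea := Coprime.ea_mono d.ea (inf_le_left : K ≤ E)
  have hVK : ∀ x ∈ V, ∀ y ∈ K, x * y = y * x := by
    intro x hx y hy
    have : x ∈ centralizer ({y} : Set G) := (closure_le _).mpr (by
      rintro z (rfl | rfl)
      · exact mem_centralizer_singleton_iff.mpr (Coprime.ea_comm d.ea e.2 (mem_inf.mp hy).1)
      · exact mem_centralizer_singleton_iff.mpr
          (mem_centralizer_singleton_iff.mp (mem_inf.mp hy).2).symm) hx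
    exact mem_centralizer_singleton_iff.mp this
  rw [valueSup_eq h2c hVea hKea hV4 hK4 hVK]
  exact valueSup_eq h2c hKea d.ea hK4 ((by norm_num : 4 ≤ 8).trans d.big)
    fun x hx y hy => Coprime.ea_comm d.ea (mem_inf.mp hx).1 hy

/-- The core of the centraliser of a nontrivial element of `S` lies in the join over `E`. -/
theorem theta_le {S E : Subgroup G} (d : Data S E) {b : G} (hb : b ∈ S) (hb1 : b ≠ 1) :
    θ b ≤ Signalizer.valueSup θ E := by
  haveI : Fact (Nat.Prime 2) := ⟨Nat.prime_two⟩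
  have hp : IsPGroup 2 (zpowers b) := d.pgroup.to_le (zpowers_le.mpr hb)
  obtain ⟨⟨i, hi⟩, hio⟩ := exists_prime_orderOf_dvd_card' (G := zpowers b) 2
    ((IsPGroup.card_eq_or_dvd hp).resolve_left (by
      rw [Nat.card_zpowers]; exact fun e => hb1 (orderOf_eq_one_iff.mp e)))
  rw [Subgroup.orderOf_mk] at hio
  have hi2 : i * i = 1 := by rw [← sq, ← hio, pow_orderOf_eq_one]
  have hi1 : i ≠ 1 := fun e => by rw [e, orderOf_one] at hio; norm_num at hio
  have hiS : i ∈ S := zpowers_le.mpr hb hi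
  obtain ⟨j, hj⟩ := mem_zpowers_iff.mp hi
  have hbi : b * i = i * b := by rw [← hj]; exact ((Commute.refl b).zpow_right j).eq
  have h1 : θ b ≤ θ i := by
    have hle : θ b ≤ centralizer ({i} : Set G) := fun x hx => by
      have hxb : x * b = b * x := mem_centralizer_singleton_iff.mp (map_subtype_le _ hx)
      refine mem_centralizer_singleton_iff.mpr ?_
      rw [← hj]; exact ((show Commute x b from hxb).zpow_right j).eq
    exact (le_inf le_rfl hle).trans (balance hbi hp (constrained h2c hi2 hi1))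
  refine h1.trans ?_
  by_cases hiE : i ∈ E
  · exact le_iSup (fun a : {a : G // a ∈ E ∧ a ≠ 1} => θ (a : G)) ⟨i, hiE, hi1⟩
  · set K := E ⊓ centralizer ({i} : Set G) with hK
    have hK4 : 4 ≤ Nat.card K := d.four_le_cent hiS hi2
    set D := closure (insert i (K : Set G)) with hD
    have hDea : IsElementaryAbelian 2 D := ea_closure
      (by
        rintro x (rfl | hx)
        · exact hi2
        · rw [← sq]; exact d.ea.2 x (mem_inf.mp hx).1)
      (by
        rintro x (rfl | hx) y (rfl | hy)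
        · rfl
        · exact (mem_centralizer_singleton_iff.mp (mem_inf.mp hy).2).symm
        · exact mem_centralizer_singleton_iff.mp (mem_inf.mp hx).2
        · exact Coprime.ea_comm d.ea (mem_inf.mp hx).1 (mem_inf.mp hy).1)
    have hKD : K ≤ D := fun x hx => subset_closure (Set.mem_insert_of_mem _ hx)
    have hDS : D ≤ S := (closure_le _).mpr (by
      rintro x (rfl | hx)
      · exact hiS
      · exact d.le (mem_inf.mp hx).1)
    rw [← valueSup_four h2c d hDS hDea (hK4.trans (card_le_of_le hKD))]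
    exact le_iSup (fun a : {a : G // a ∈ D ∧ a ≠ 1} => θ (a : G))
      ⟨i, subset_closure (Set.mem_insert _ _), hi1⟩

/-- The theorem. -/
theorem exists_web (hFT : ∀ {H : Type u} [Group H] [Finite H], Odd (Nat.card H) → Group.IsSolvable H)
    {S E : Subgroup G} (d : Data S E) :
    ∃ W : Subgroup G, Odd (Nat.card ↥W) ∧
      ∀ B : Subgroup G, B ≤ S → ¬ Cfsg.PRankLE 2 1 ↥B →
        W = (⨆ b : {b : G // b ∈ B ∧ b ≠ 1}, θ (b : G)) ∧
        Subgroup.normalizer (B : Set G) ≤ Subgroup.normalizer (W : Set G) := by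
  haveI : Fact (Nat.Prime 2) := ⟨Nat.prime_two⟩
  set W := Signalizer.valueSup θ E with hW
  refine ⟨W, ?_, ?_⟩
  · have hodd : ¬ 2 ∣ Nat.card W := by
      have hpe : ∀ e ∈ E, e ≠ 1 → IsPGroup 2 (zpowers e) := fun e he he1 =>
        d.pgroup.to_le (zpowers_le.mpr (d.le he))
      refine ((S0217.result E (fun x hx y hy => Coprime.ea_comm d.ea hx hy) d.ea.2
        (by simpa using d.big) θ (fun a _ _ => map_subtype_le _) (fun a _ _ => theta_odd a)
        (fun a ha _ b hb x hx => theta_conj_mem (Coprime.ea_comm d.ea hb ha) hx)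
        (fun a _ _ => hFT ?_) (fun a ha ha1 b hb hb1 => ?_))).1
      · rw [Nat.odd_iff, ← Nat.two_dvd_ne_zero]; exact theta_odd a
      · exact balance (Coprime.ea_comm d.ea ha hb) (hpe a ha ha1)
          (constrained h2c (by rw [← sq]; exact d.ea.2 b hb) hb1)
    rw [Nat.odd_iff, ← Nat.two_dvd_ne_zero]
    exact hodd
  intro B hBS hB
  simp only [PRankLE, not_forall, not_le] at hB
  obtain ⟨A, hA, hexp, hbig⟩ := hB
  set A' := A.map B.subtype with hA'
  have hA'ea : IsElementaryAbelian 2 A' := by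
    refine ⟨⟨⟨?_⟩⟩, ?_⟩
    · rintro ⟨_, x, hx, rfl⟩ ⟨_, y, hy, rfl⟩
      apply Subtype.ext
      simp only [Subgroup.coe_mul]
      rw [← map_mul, ← map_mul, show x * y = y * x from
        congrArg Subtype.val (hA.is_comm.comm ⟨x, hx⟩ ⟨y, hy⟩)]
    · rintro _ ⟨x, hx, rfl⟩
      rw [← map_pow, hexp x hx, map_one]
  have hA'4 : 4 ≤ Nat.card A' := by
    obtain ⟨n, hn⟩ := Coprime.ea_card hA'ea
    rw [hA', card_map_of_injective B.subtype_injective] at hn ⊢
    rw [hn] at hbig ⊢
    simp only [pow_one] at hbig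
    rcases n with _ | _ | n
    · norm_num at hbig
    · norm_num at hbig
    · calc 4 = 2 ^ 2 := rfl
        _ ≤ 2 ^ (n + 1 + 1) := Nat.pow_le_pow_right (by norm_num) (by omega)
  have hWB : W = ⨆ b : {b : G // b ∈ B ∧ b ≠ 1}, θ (b : G) := by
    refine le_antisymm ?_ (iSup_le fun b => theta_le h2c d (hBS b.2.1) b.2.2)
    rw [hW, ← valueSup_four h2c d ((map_subtype_le A).trans hBS) hA'ea hA'4]
    exact iSup_le fun a => le_iSup (fun b : {b : G // b ∈ B ∧ b ≠ 1} => θ (b : G))
      ⟨a, map_subtype_le A a.2.1, a.2.2⟩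
  refine ⟨hWB, fun g hg => ?_⟩
  have key : ∀ h ∈ normalizer (B : Set G), ∀ x ∈ W, h * x * h⁻¹ ∈ W := by
    intro h hh x hx
    have hle : W.map (MulAut.conj h).toMonoidHom ≤ W := by
      conv_lhs => rw [hWB, Subgroup.map_iSup]
      conv_rhs => rw [hWB]
      refine iSup_le fun b => ?_
      rw [← Signalizer.core_conj]
      exact le_iSup (fun b : {b : G // b ∈ B ∧ b ≠ 1} => θ (b : G))
        ⟨h * b * h⁻¹, (mem_normalizer_iff.mp hh b).mp b.2.1, fun e => b.2.2 (conj_eq_one_iff.mp e)⟩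
    exact hle ⟨x, hx, rfl⟩
  refine mem_normalizer_iff.mpr fun x => ⟨key g hg x, fun hx => ?_⟩
  have := key g⁻¹ (inv_mem hg) _ hx
  rwa [show g⁻¹ * (g * x * g⁻¹) * g⁻¹⁻¹ = x by group] at this

omit h2c in
/-- A self-centralising abelian normal subgroup of rank at least 3 gives the data for each Sylow subgroup. -/
theorem exists_data (S : Sylow 2 G) (A : Subgroup ↥(S : Subgroup G)) (hAn : A.Normal)
    (hAab : IsMulCommutative ↥A) (hA3 : ¬ Cfsg.PRankLE 2 2 ↥A) (S' : Sylow 2 G) :
    ∃ E : Subgroup G, Data (S' : Subgroup G) E := by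
  haveI : Fact (Nat.Prime 2) := ⟨Nat.prime_two⟩
  obtain ⟨g, rfl⟩ := MulAction.exists_smul_eq G S S'
  simp only [PRankLE, not_forall, not_le] at hA3
  obtain ⟨D, hD, hexp, hbig⟩ := hA3
  set c : ↥(S : Subgroup G) →* G := (MulAut.conj g).toMonoidHom.comp (S : Subgroup G).subtype with hc
  have hci : Function.Injective c := (MulAut.conj g).injective.comp Subtype.val_injective
  set E0 : Subgroup ↥(S : Subgroup G) :=
    { carrier := {x | x ∈ A ∧ x * x = 1}
      one_mem' := ⟨one_mem A, one_mul 1⟩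
      mul_mem' := by
        rintro x y ⟨hx, hx2⟩ ⟨hy, hy2⟩
        have hxy : x * y = y * x := congrArg Subtype.val (hAab.is_comm.comm ⟨x, hx⟩ ⟨y, hy⟩)
        refine ⟨mul_mem hx hy, ?_⟩
        calc x * y * (x * y) = x * (y * x) * y := by group
          _ = x * x * (y * y) := by rw [← hxy]; group
          _ = 1 := by rw [hx2, hy2, one_mul]
      inv_mem' := by
        rintro x ⟨hx, hx2⟩
        exact ⟨inv_mem hx, by rw [← mul_inv_rev, hx2, inv_one]⟩ } with hE0
  have hS' : ((g • S : Sylow 2 G) : Subgroup G) = (S : Subgroup G).map (MulAut.conj g).toMonoidHom := rfl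
  refine ⟨E0.map c, ⟨(g • S).isPGroup', ?_, ?_, ⟨⟨⟨?_⟩⟩, ?_⟩, ?_⟩⟩
  · rintro _ ⟨x, -, rfl⟩
    rw [hS']
    exact ⟨x, x.2, rfl⟩
  · rw [hS']
    rintro _ ⟨s, hs, rfl⟩ _ ⟨x, ⟨hx, hx2⟩, rfl⟩
    refine ⟨⟨s, hs⟩ * x * ⟨s, hs⟩⁻¹, ⟨hAn.conj_mem x hx _, ?_⟩, ?_⟩
    · calc (⟨s, hs⟩ : ↥(S : Subgroup G)) * x * ⟨s, hs⟩⁻¹ * (⟨s, hs⟩ * x * ⟨s, hs⟩⁻¹)
          = ⟨s, hs⟩ * (x * x) * ⟨s, hs⟩⁻¹ := by group
        _ = 1 := by rw [hx2, mul_one, mul_inv_cancel]
    · rw [map_mul, map_mul, map_inv]; rfl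
  · rintro ⟨_, x, ⟨hx, -⟩, rfl⟩ ⟨_, y, ⟨hy, -⟩, rfl⟩
    apply Subtype.ext
    simp only [Subgroup.coe_mul]
    rw [← map_mul, ← map_mul, show x * y = y * x from
      congrArg Subtype.val (hAab.is_comm.comm ⟨x, hx⟩ ⟨y, hy⟩)]
  · rintro _ ⟨x, ⟨-, hx2⟩, rfl⟩
    rw [← map_pow, sq, hx2, map_one]
  · rw [card_map_of_injective hci]
    have hle : D.map A.subtype ≤ E0 := by
      rintro _ ⟨x, hx, rfl⟩
      refine ⟨x.2, ?_⟩
      rw [← sq, ← map_pow, hexp x hx, map_one]
    refine le_trans ?_ (card_le_of_le hle)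
    rw [card_map_of_injective A.subtype_injective]
    obtain ⟨n, hn⟩ := IsPGroup.iff_card.mp
      (Coprime.ea_isPGroup (⟨hD, hexp⟩ : IsElementaryAbelian 2 D))
    rw [hn] at hbig ⊢
    have : 2 < n := (Nat.pow_lt_pow_iff_right (by norm_num)).mp hbig
    calc 8 = 2 ^ 3 := rfl
      _ ≤ 2 ^ n := Nat.pow_le_pow_right (by norm_num) this

end Cfsg.Agent.CoreWeb
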